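import Mathlib
import Groth.Prelude

/-!
# Factorisation of a 1-morphism of fibred categories through the category of vertical arrows `y ⟶ F x`
-/

set_option autoImplicit false

noncomputable section

universe v u

open CategoryTheory Functor Category

namespace Groth.Agent.FibFactor

variable {C : Type u} [Category.{v} C] {𝒳 𝒴 : BasedCategory.{v, max u v} C} (F : 𝒳 ⥤ᵇ 𝒴)

/-- Vertical arrows `y ⟶ F x`. -/
abbrev Vert : ObjectProperty (Comma (Functor.id 𝒴.obj) F.toFunctor) :=
  fun z => 𝒴.p.IsHomLift (𝟙 (𝒳.p.obj z.right)) z.hom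

/-- The category of vertical arrows `y ⟶ F x`, over `C`. -/
def total : BasedCategory.{v, max u v} C where
  obj := (Vert F).FullSubcategory
  p := (Vert F).ι ⋙ Comma.snd (Functor.id 𝒴.obj) F.toFunctor ⋙ 𝒳.p

variable {F}

theorem vert_lift (z : (total F).obj) : 𝒴.p.IsHomLift (𝟙 (𝒳.p.obj z.obj.right)) z.obj.hom := z.property

theorem left_obj (z : (total F).obj) : 𝒴.p.obj z.obj.left = 𝒳.p.obj z.obj.right :=
  haveI := vert_lift z
  IsHomLift.domain_eq 𝒴.p (𝟙 (𝒳.p.obj z.obj.right)) z.obj.hom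

theorem comm {z z' : (total F).obj} (m : z ⟶ z') :
    m.hom.left ≫ z'.obj.hom = z.obj.hom ≫ F.map m.hom.right := m.hom.w

/-- A morphism from its two components. -/
def homMk {z z' : (total F).obj} (l : z.obj.left ⟶ z'.obj.left) (r : z.obj.right ⟶ z'.obj.right)
    (h : l ≫ z'.obj.hom = z.obj.hom ≫ F.map r) : z ⟶ z' :=
  ObjectProperty.homMk { left := l, right := r, w := h }

theorem hom_ext {z z' : (total F).obj} {m m' : z ⟶ z'} (hl : m.hom.left = m'.hom.left)
    (hr : m.hom.right = m'.hom.right) : m = m' :=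
  InducedCategory.hom_ext (CommaMorphism.ext hl hr)

variable (F) in
/-- The projection to `𝒳`. -/
def w : (total F) ⥤ᵇ 𝒳 where
  toFunctor := (Vert F).ι ⋙ Comma.snd (Functor.id 𝒴.obj) F.toFunctor
  w := rfl

variable (F) in
/-- The projection to `𝒴`. -/
def v : (total F) ⥤ᵇ 𝒴 where
  toFunctor := (Vert F).ι ⋙ Comma.fst (Functor.id 𝒴.obj) F.toFunctor
  w := by
    refine CategoryTheory.Functor.ext (fun z => left_obj z) fun z z' m => ?_
    have h := congrArg 𝒴.p.map (comm m)
    haveI := vert_lift z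
    haveI := vert_lift z'
    rw [map_comp, map_comp, IsHomLift.fac' 𝒴.p (𝟙 (𝒳.p.obj z'.obj.right)) z'.obj.hom,
      IsHomLift.fac' 𝒴.p (𝟙 (𝒳.p.obj z.obj.right)) z.obj.hom, id_comp, id_comp,
      IsHomLift.fac' 𝒴.p (𝒳.p.map m.hom.right) (F.map m.hom.right)] at h
    simp only [eqToHom_trans, eqToHom_trans_assoc] at h
    show 𝒴.p.map m.hom.left = eqToHom _ ≫ 𝒳.p.map m.hom.right ≫ eqToHom _
    rw [← IsIso.eq_comp_inv, inv_eqToHom] at h
    rw [h]
    simp

variable (F) in
/-- The unit section. -/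
def u : 𝒳 ⥤ᵇ (total F) where
  toFunctor := ObjectProperty.lift (Vert F)
    { obj := fun x => { left := F.obj x, right := x, hom := 𝟙 (F.obj x) }
      map := fun a => { left := F.map a, right := a, w := by simp } }
    (fun x => IsHomLift.id (F.w_obj x))
  w := rfl

theorem u_comp_v : BasedFunctor.comp (u F) (v F) = F := rfl

/-- `u` is fully faithful. -/
def uFullyFaithful : (u F).toFunctor.FullyFaithful where
  preimage := fun m => m.hom.right
  map_preimage := fun {x y} m => by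
    refine hom_ext ?_ rfl
    show F.map m.hom.right = m.hom.left
    have h := comm m
    simp [u] at h
    exact h.symm
  preimage_map := fun a => rfl

/-- `w ⊣ u`. -/
def adj : (w F).toFunctor ⊣ (u F).toFunctor :=
  Adjunction.mk'
    { homEquiv := fun z x =>
        { toFun := fun a => homMk (z.obj.hom ≫ F.map a) a (by
            show (z.obj.hom ≫ F.map a) ≫ 𝟙 (F.obj x) = _
            rw [comp_id]; rfl)
          invFun := fun m => m.hom.right
          left_inv := fun a => rfl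
          right_inv := fun m => by
            refine hom_ext ?_ rfl
            show z.obj.hom ≫ F.map m.hom.right = m.hom.left
            have h := comm m
            simp [u] at h
            exact h.symm }
      unit :=
        { app := fun z => homMk z.obj.hom (𝟙 _) (by
            show z.obj.hom ≫ 𝟙 (F.obj z.obj.right) = z.obj.hom ≫ F.map (𝟙 z.obj.right)
            rw [F.map_id])
          naturality := fun z z' m => hom_ext (comm m) ((comp_id _).trans (id_comp _).symm) }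
      counit := { app := fun x => 𝟙 x, naturality := fun x y a => (comp_id _).trans (id_comp _).symm }
      homEquiv_unit := fun {z x f} => hom_ext rfl (id_comp _).symm
      homEquiv_counit := fun {z x g} => (comp_id _).symm }

variable (hF : FibCat.PreservesStronglyCartesian F)
include hF

theorem total_isStronglyCartesian {R S : C} (f : R ⟶ S) {z z' : (total F).obj} (m : z ⟶ z')
    (hl : 𝒴.p.IsStronglyCartesian f m.hom.left) (hr : 𝒳.p.IsStronglyCartesian f m.hom.right) :
    (total F).p.IsStronglyCartesian f m := by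
  haveI := hF f m.hom.right hr
  haveI : (total F).p.IsHomLift f m := by
    haveI := hr.toIsHomLift
    exact ((w F).isHomLift_iff f m).1 (inferInstanceAs (𝒳.p.IsHomLift f m.hom.right))
  constructor
  intro z'' g m'' _
  haveI : 𝒳.p.IsHomLift (g ≫ f) m''.hom.right := (w F).preserves_isHomLift (g ≫ f) m''
  haveI : 𝒴.p.IsHomLift (g ≫ f) m''.hom.left := (v F).preserves_isHomLift (g ≫ f) m''
  let cl := IsStronglyCartesian.map 𝒴.p f m.hom.left (g := g) rfl m''.hom.left
  let cr := IsStronglyCartesian.map 𝒳.p f m.hom.right (g := g) rfl m''.hom.right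
  haveI := vert_lift z''
  haveI := vert_lift z
  have hsq : cl ≫ z.obj.hom = z''.obj.hom ≫ F.map cr := by
    haveI : 𝒴.p.IsHomLift g (cl ≫ z.obj.hom) := IsHomLift.comp_lift_id_right' 𝒴.p g cl (𝒳.p.obj z.obj.right) z.obj.hom
    haveI : 𝒴.p.IsHomLift g (z''.obj.hom ≫ F.map cr) :=
      IsHomLift.comp_lift_id_left' 𝒴.p (𝒳.p.obj z''.obj.right) z''.obj.hom g (F.map cr)
    apply IsStronglyCartesian.ext 𝒴.p f (F.map m.hom.right) g
    rw [assoc, assoc, ← comm m, IsStronglyCartesian.fac_assoc, ← F.map_comp, IsStronglyCartesian.fac]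
    exact comm m''
  refine ⟨homMk cl cr hsq, ⟨?_, hom_ext (IsStronglyCartesian.fac 𝒴.p f m.hom.left (g := g) (f' := g ≫ f) rfl m''.hom.left)
      (IsStronglyCartesian.fac 𝒳.p f m.hom.right (g := g) (f' := g ≫ f) rfl m''.hom.right)⟩,
    fun χ ⟨h1, h2⟩ => ?_⟩
  · exact ((w F).isHomLift_iff g (homMk cl cr hsq)).1 (inferInstanceAs (𝒳.p.IsHomLift g cr))
  · haveI : 𝒳.p.IsHomLift g χ.hom.right := (w F).preserves_isHomLift g χ
    haveI : 𝒴.p.IsHomLift g χ.hom.left := (v F).preserves_isHomLift g χ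
    exact hom_ext
      (IsStronglyCartesian.map_uniq 𝒴.p f m.hom.left (g := g) (f' := g ≫ f) rfl m''.hom.left χ.hom.left (by rw [← h2]; rfl))
      (IsStronglyCartesian.map_uniq 𝒳.p f m.hom.right (g := g) (f' := g ≫ f) rfl m''.hom.right χ.hom.right (by rw [← h2]; rfl))

omit hF in
/-- Completion of `(b, a)` to a morphism of vertical arrows, when `F a` is cartesian. -/
theorem exists_over {R : C} (z : (total F).obj) (f : R ⟶ 𝒳.p.obj z.obj.right) {x : 𝒳.obj}
    (a : x ⟶ z.obj.right) [𝒳.p.IsHomLift f a] [𝒴.p.IsStronglyCartesian f (F.map a)]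
    {y : 𝒴.obj} (b : y ⟶ z.obj.left) [𝒴.p.IsHomLift f b] :
    ∃ (φ : y ⟶ F.obj x) (hφ : 𝒴.p.IsHomLift (𝟙 (𝒳.p.obj x)) φ), φ ≫ F.map a = b ≫ z.obj.hom := by
  obtain rfl := IsHomLift.domain_eq 𝒳.p f a
  haveI := vert_lift z
  exact ⟨IsStronglyCartesian.map 𝒴.p f (F.map a) (id_comp f).symm (b ≫ z.obj.hom),
    inferInstance, IsStronglyCartesian.fac _ _ _ _ _⟩

variable [𝒳.p.IsFibered] [𝒴.p.IsFibered]

theorem exists_components {R : C} (z : (total F).obj) (f : R ⟶ 𝒳.p.obj z.obj.right) :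
    ∃ (z' : (total F).obj) (m : z' ⟶ z),
      𝒴.p.IsStronglyCartesian f m.hom.left ∧ 𝒳.p.IsStronglyCartesian f m.hom.right := by
  obtain ⟨x, a, _⟩ := IsPreFibered.exists_isCartesian 𝒳.p (a := z.obj.right) rfl f
  obtain ⟨y, b, _⟩ := IsPreFibered.exists_isCartesian 𝒴.p (a := z.obj.left) (left_obj z) f
  haveI : 𝒳.p.IsStronglyCartesian f a := inferInstance
  haveI := hF f a inferInstance
  obtain ⟨φ, hφ, h⟩ := exists_over z f a b
  exact ⟨⟨{ left := y, right := x, hom := φ }, hφ⟩, homMk b a h.symm,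
    inferInstanceAs (𝒴.p.IsStronglyCartesian f b), inferInstanceAs (𝒳.p.IsStronglyCartesian f a)⟩

theorem total_isFibered : (total F).p.IsFibered :=
  IsFibered.of_exists_isStronglyCartesian fun z R f => by
    obtain ⟨z', m, hl, hr⟩ := exists_components hF z f
    exact ⟨z', m, total_isStronglyCartesian hF f m hl hr⟩

theorem components_of_isStronglyCartesian {R S : C} (f : R ⟶ S) {z' z : (total F).obj} (m : z' ⟶ z)
    (hm : (total F).p.IsStronglyCartesian f m) :
    𝒴.p.IsStronglyCartesian f m.hom.left ∧ 𝒳.p.IsStronglyCartesian f m.hom.right := by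
  haveI := hm
  obtain rfl : 𝒳.p.obj z.obj.right = S := IsHomLift.codomain_eq (total F).p f m
  obtain ⟨z₀, m₀, hl, hr⟩ := exists_components hF z f
  haveI := total_isStronglyCartesian hF f m₀ hl hr
  let e := IsStronglyCartesian.domainIsoOfBaseIso (total F).p (g := Iso.refl R) (id_comp f).symm m₀ m
  haveI : (total F).p.IsHomLift (𝟙 R) e.hom :=
    IsStronglyCartesian.domainUniqueUpToIso_inv_isHomLift (p := (total F).p) (g := Iso.refl R) (id_comp f).symm m₀ m
  have he : e.hom ≫ m₀ = m := IsStronglyCartesian.fac (total F).p f m₀ (id_comp f).symm m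
  haveI : 𝒴.p.IsHomLift (𝟙 R) ((v F).toFunctor.mapIso e).hom := (v F).preserves_isHomLift (𝟙 R) e.hom
  haveI : 𝒳.p.IsHomLift (𝟙 R) ((w F).toFunctor.mapIso e).hom := (w F).preserves_isHomLift (𝟙 R) e.hom
  have hl' : m.hom.left = ((v F).toFunctor.mapIso e).hom ≫ m₀.hom.left := by rw [← he]; rfl
  have hr' : m.hom.right = ((w F).toFunctor.mapIso e).hom ≫ m₀.hom.right := by rw [← he]; rfl
  have hel := IsStronglyCartesian.of_iso 𝒴.p (𝟙 R) ((v F).toFunctor.mapIso e)
  have her := IsStronglyCartesian.of_iso 𝒳.p (𝟙 R) ((w F).toFunctor.mapIso e)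
  rw [hl', hr', ← id_comp f]
  exact ⟨@IsStronglyCartesian.comp _ _ _ _ _ _ _ _ _ _ _ _ _ _ _ hel hl,
    @IsStronglyCartesian.comp _ _ _ _ _ _ _ _ _ _ _ _ _ _ _ her hr⟩

theorem u_preserves : FibCat.PreservesStronglyCartesian (u F) :=
  fun R S f a b φ h => total_isStronglyCartesian hF f ((u F).map φ) (hF f φ h) h

theorem v_preserves : FibCat.PreservesStronglyCartesian (v F) :=
  fun R S f a b φ h => (components_of_isStronglyCartesian hF f φ h).1

theorem w_preserves : FibCat.PreservesStronglyCartesian (w F) :=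
  fun R S f a b φ h => (components_of_isStronglyCartesian hF f φ h).2

theorem v_isFibered : (v F).toFunctor.IsFibered := by
  refine IsFibered.of_exists_isStronglyCartesian fun z y b => ?_
  obtain ⟨g, hg⟩ : ∃ g : 𝒴.p.obj y ⟶ 𝒳.p.obj z.obj.right, g = 𝒴.p.map b ≫ eqToHom (left_obj z) := ⟨_, rfl⟩
  obtain ⟨x, a, _⟩ := IsPreFibered.exists_isCartesian 𝒳.p (a := z.obj.right) rfl g
  haveI : 𝒳.p.IsStronglyCartesian g a := inferInstance
  haveI := hF g a inferInstance
  obtain ⟨b', hb'⟩ : ∃ b' : y ⟶ z.obj.left, b' = b := ⟨b, rfl⟩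
  subst hb'
  haveI : 𝒴.p.IsHomLift g b' := by
    rw [hg]
    exact IsHomLift.lift_comp_eqToHom 𝒴.p (𝒴.p.map b') b' _
  obtain ⟨φ, hφ, h⟩ := exists_over z g a b'
  let z' : (total F).obj := ⟨{ left := y, right := x, hom := φ }, hφ⟩
  let m : z' ⟶ z := homMk b' a h.symm
  refine ⟨z', m, ?_⟩
  haveI : (v F).toFunctor.IsHomLift b' m := IsHomLift.map (v F).toFunctor m
  refine @IsStronglyCartesian.mk _ _ _ _ _ _ _ _ _ _ _ this ?_
  intro z'' k m'' _
  obtain ⟨k', hk'⟩ : ∃ k' : z''.obj.left ⟶ y, k' = k := ⟨k, rfl⟩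
  subst hk'
  have hk : k' ≫ b' = m''.hom.left := IsHomLift.eq_of_isHomLift (v F).toFunctor (k' ≫ b') m''
  obtain ⟨gk, hgk⟩ : ∃ gk : 𝒳.p.obj z''.obj.right ⟶ 𝒴.p.obj y,
      gk = eqToHom (left_obj z'').symm ≫ 𝒴.p.map k' := ⟨_, rfl⟩
  haveI hklift : 𝒴.p.IsHomLift gk k' := by
    rw [hgk]
    exact IsHomLift.lift_eqToHom_comp 𝒴.p (𝒴.p.map k') k' _
  haveI : 𝒴.p.IsHomLift (gk ≫ g) m''.hom.left := by
    rw [← hk]
    exact IsHomLift.comp 𝒴.p gk g k' b'
  haveI : (total F).p.IsHomLift (gk ≫ g) m'' :=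
    ((v F).isHomLift_iff (gk ≫ g) m'').1 (inferInstanceAs (𝒴.p.IsHomLift (gk ≫ g) m''.hom.left))
  haveI : 𝒳.p.IsHomLift (gk ≫ g) m''.hom.right := (w F).preserves_isHomLift (gk ≫ g) m''
  let cr := IsStronglyCartesian.map 𝒳.p g a (g := gk) rfl m''.hom.right
  haveI := vert_lift z''
  haveI := vert_lift z'
  have hsq : k' ≫ φ = z''.obj.hom ≫ F.map cr := by
    haveI : 𝒴.p.IsHomLift gk (k' ≫ φ) :=
      IsHomLift.comp_lift_id_right' 𝒴.p gk k' (𝒳.p.obj x) φ
    haveI : 𝒴.p.IsHomLift gk (z''.obj.hom ≫ F.map cr) :=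
      IsHomLift.comp_lift_id_left' 𝒴.p (𝒳.p.obj z''.obj.right) z''.obj.hom gk (F.map cr)
    apply IsStronglyCartesian.ext 𝒴.p g (F.map a) gk
    rw [assoc, assoc, h, ← F.map_comp, IsStronglyCartesian.fac, ← comm m'', ← hk]
    exact (assoc _ _ _).symm
  refine ⟨homMk (z := z'') (z' := z') k' cr hsq, ⟨show (v F).toFunctor.IsHomLift ((v F).toFunctor.map (homMk (z := z'') (z' := z') k' cr hsq)) (homMk (z := z'') (z' := z') k' cr hsq) from inferInstance,
    hom_ext hk (IsStronglyCartesian.fac 𝒳.p g a (g := gk) (f' := gk ≫ g) rfl m''.hom.right)⟩, fun χ ⟨h1, h2⟩ => ?_⟩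
  have hχ : k' = χ.hom.left := @IsHomLift.eq_of_isHomLift _ _ _ _ (v F).toFunctor z'' z' k' χ h1
  haveI : (total F).p.IsHomLift gk χ :=
    ((v F).isHomLift_iff gk χ).1 (show 𝒴.p.IsHomLift gk χ.hom.left from hχ ▸ hklift)
  haveI : 𝒳.p.IsHomLift gk χ.hom.right := (w F).preserves_isHomLift gk χ
  exact hom_ext hχ.symm (IsStronglyCartesian.map_uniq 𝒳.p g a (g := gk) (f' := gk ≫ g) rfl m''.hom.right χ.hom.right (by rw [← h2]; rfl))

end Groth.Agent.FibFactor
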